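import Groth.Agent.Nakai.FibreDeg
import Groth.Agent.Nakai.FibreNef
import Groth.Agent.Nakai.RealBig
import Groth.Agent.Nakai.NefApps
import Groth.Agent.Intersect.CurveOnSurface
import Groth.Agent.Intersect.Surface
import Groth.Agent.Intersect.PushDeg
import Groth.Agent.Intersect.Comp
import Groth.Agent.DivPart.Sum
import Groth.Agent.S1568
import Groth.Agent.S1684
import Groth.Agent.S2821

/-!
Curves on a regular proper integral surface and degrees of effective Cartier ideals on them.
-/

set_option autoImplicit false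
set_option backward.isDefEq.respectTransparency false
set_option linter.style.haveILetI false
set_option linter.unusedSectionVars false

universe u

open CategoryTheory CategoryTheory.Limits AlgebraicGeometry TopologicalSpace
open Groth.Agent.Intersect Groth.Agent.Nakai

noncomputable section

namespace Groth.Agent.SurfAmple

variable {X : Scheme.{u}}

/-- The closure of a point, reduced, as an ideal sheaf. -/
abbrev curveOf (ξ : X) : X.IdealSheafData := Scheme.IdealSheafData.vanishingIdeal (Devissage.Zc ξ)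

instance curveOf_integral (ξ : X) : IsIntegral (curveOf ξ).subscheme := Devissage.Zi_isIntegral ξ

theorem support_curveOf (ξ : X) : ((curveOf ξ).support : Set X) = closure {ξ} := support_vanishing ξ

theorem genericPoint_curveOf (ξ : X) :
    (curveOf ξ).subschemeι (genericPoint (curveOf ξ).subscheme) = ξ := by
  have h := closure_genericPoint_subscheme (curveOf ξ)
  rw [support_curveOf] at h
  exact ((isGenericPoint_closure (x := ξ)).eq (show IsGenericPoint _ (closure {ξ}) from h)).symm

theorem eq_curveOf (C : X.IdealSheafData) [IsIntegral C.subscheme] :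
    C = curveOf (C.subschemeι (genericPoint C.subscheme)) :=
  eq_of_genericPoint (genericPoint_curveOf _).symm

variable (k : Type u) [Field k] [X.Over (Spec (CommRingCat.of k))] [IsProper (X ↘ Spec (CommRingCat.of k))]
  [IsIntegral X] (hdim : topologicalKrullDim X = 2) (hreg : ∀ x : X, IsRegularLocalRing (X.presheaf.stalk x))

include k hdim hreg in
theorem cartier_curveOf {ξ : X} (h1 : topologicalKrullDim (closure {ξ} : Set X) = ((1 : ℕ) : WithBot ℕ∞)) :
    BlowUp.IsEffCartierIdeal (curveOf ξ) := by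
  haveI := CurveRR.isNoetherian_of_proper k X
  refine Groth.Agent.S1684.result X (curveOf ξ) ?_ fun x _ => ?_
  · rw [genericPoint_curveOf]
    exact ringKrullDim_stalk_curve k hdim h1
  · haveI := hreg x
    exact Groth.Agent.S2821.result _

include k hdim in
/-- The maximal points of an effective Cartier divisor on a surface are generic points of curves. -/
theorem dim_closure_one {D : X.IdealSheafData} (hD : BlowUp.IsEffCartierIdeal D) {ξ : X}
    (hξ : ξ ∈ (D.support : Set X)) (hmax : ∀ y ∈ (D.support : Set X), y ⤳ ξ → y = ξ) :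
    topologicalKrullDim (closure {ξ} : Set X) = ((1 : ℕ) : WithBot ℕ∞) := by
  haveI := CurveRR.isNoetherian_of_proper k X
  have hst := Groth.Agent.S1568.result X D hD ξ hξ hmax
  have hη : genericPoint X ∉ closure ({ξ} : Set X) := fun h => by
    have he : ξ = genericPoint X :=
      ((genericPoint_specializes ξ).antisymm (specializes_iff_mem_closure.mpr h)).eq.symm
    haveI : IsField (X.presheaf.stalk (genericPoint X)) := Field.toIsField X.functionField
    rw [he] at hst
    have h0 : ringKrullDim (X.presheaf.stalk (genericPoint X)) = 0 :=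
      @ringKrullDim_eq_zero_of_field X.functionField _
    rw [h0] at hst
    exact absurd hst (by decide)
  have hu : closure ({genericPoint X} : Set X) = Set.univ := genericPoint_spec X
  have hle : topologicalKrullDim (closure {ξ} : Set X) < ((2 : ℕ) : WithBot ℕ∞) :=
    dim_proper_lt (ξ := genericPoint X) (by
      rw [hu, (Homeomorph.Set.univ X).isHomeomorph.topologicalKrullDim_eq, hdim]; decide)
      isClosed_closure (hu ▸ Set.subset_univ _) hη
  have hnc : ¬ IsClosed ({ξ} : Set X) := fun h => by
    rw [dim_stalk_closed k h, hdim] at hst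
    exact absurd hst (by decide)
  obtain ⟨z, hz, hzne⟩ : ∃ z ∈ closure ({ξ} : Set X), z ≠ ξ := by
    by_contra! h
    exact hnc (by
      rw [show ({ξ} : Set X) = closure {ξ} from subset_antisymm subset_closure h]
      exact isClosed_closure)
  haveI : QuasiSober (closure ({ξ} : Set X)) :=
    Topology.IsClosedEmbedding.quasiSober (f := (Subtype.val : closure ({ξ} : Set X) → X))
      isClosed_closure.isClosedEmbedding_subtypeVal
  have hge : ((1 : ℕ) : WithBot ℕ∞) ≤ topologicalKrullDim (closure {ξ} : Set X) :=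
    le_dim_of_chain (n := 1) ![⟨z, hz⟩, ⟨ξ, subset_closure rfl⟩] fun i j hij => by
      fin_cases i <;> fin_cases j <;> simp at hij ⊢
      exact ⟨Topology.IsInducing.subtypeVal.specializes_iff.mp (specializes_iff_mem_closure.mpr hz), hzne⟩
  exact le_antisymm (le_of_lt_succ' hle) hge

include k hdim in
theorem dim_support_le {D : X.IdealSheafData} (hD : BlowUp.IsEffCartierIdeal D) :
    topologicalKrullDim (D.support : Set X) ≤ ((1 : ℕ) : WithBot ℕ∞) := by
  haveI := CurveRR.isNoetherian_of_proper k X
  have hη : genericPoint X ∉ (D.support : Set X) := fun h => by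
    obtain ⟨U, hxU, f, hf, hUI⟩ := hD (genericPoint X)
    haveI : Nonempty U.1 := ⟨⟨_, hxU⟩⟩
    rw [SetLike.mem_coe, D.mem_support_iff_of_mem hxU, hUI, Scheme.zeroLocus_span,
      Scheme.mem_zeroLocus_iff] at h
    refine h f rfl ((X.mem_basicOpen f _ hxU).2 ?_)
    have hf0 : f ≠ 0 := nonZeroDivisors.ne_zero hf
    have hne : X.presheaf.germ U.1 (genericPoint X) hxU f ≠ (0 : X.functionField) := fun h0 =>
      hf0 (germ_injective_of_isIntegral X (genericPoint X) hxU (h0.trans (map_zero _).symm))
    exact (Ne.isUnit hne : IsUnit (X.presheaf.germ U.1 (genericPoint X) hxU f : X.functionField))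
  have hu : closure ({genericPoint X} : Set X) = Set.univ := genericPoint_spec X
  exact le_of_lt_succ' (dim_proper_lt (ξ := genericPoint X) (by
      rw [hu, (Homeomorph.Set.univ X).isHomeomorph.topologicalKrullDim_eq, hdim]; decide)
      D.support.isClosed (hu ▸ Set.subset_univ _) hη)

include k hdim in
/-- Every point of an effective Cartier divisor lies on one of its curves. -/
theorem exists_top_specializes {D : X.IdealSheafData} (hD : BlowUp.IsEffCartierIdeal D) {y : X}
    (hy : y ∈ (D.support : Set X)) : ∃ ξ ∈ top (D.support : Set X) 1, ξ ⤳ y := by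
  by_cases hmax : ∀ z ∈ (D.support : Set X), z ⤳ y → z = y
  · exact ⟨y, ⟨hy, dim_closure_one k hdim hD hy hmax⟩, specializes_rfl⟩
  push Not at hmax
  obtain ⟨z, hz, hzy, hne⟩ := hmax
  refine ⟨z, ⟨hz, dim_closure_one k hdim hD hz fun w hw hwz => ?_⟩, hzy⟩
  by_contra hwne
  haveI : QuasiSober (D.support : Set X) :=
    Topology.IsClosedEmbedding.quasiSober (f := (Subtype.val : ↥(SetLike.coe D.support) → X))
      D.support.isClosed.isClosedEmbedding_subtypeVal
  have h2 : ((2 : ℕ) : WithBot ℕ∞) ≤ topologicalKrullDim (D.support : Set X) :=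
    le_dim_of_chain (n := 2) ![⟨y, hy⟩, ⟨z, hz⟩, ⟨w, hw⟩] fun i j hij => by
      fin_cases i <;> fin_cases j <;> simp at hij ⊢
      · exact ⟨Topology.IsInducing.subtypeVal.specializes_iff.mp hzy, hne.symm⟩
      · exact ⟨Topology.IsInducing.subtypeVal.specializes_iff.mp (hwz.trans hzy),
          fun e => hne ((hzy.antisymm (e ▸ hwz)).eq)⟩
      · exact ⟨Topology.IsInducing.subtypeVal.specializes_iff.mp hwz, Ne.symm hwne⟩
  exact absurd (h2.trans (dim_support_le k hdim hD)) (by decide)

include k hdim hreg in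
/-- An effective Cartier divisor is a sum of its curves. -/
theorem exists_eq_prod {D : X.IdealSheafData} (hD : BlowUp.IsEffCartierIdeal D) (T : Finset X)
    (hT : ∀ ξ ∈ T, topologicalKrullDim (closure {ξ} : Set X) = ((1 : ℕ) : WithBot ℕ∞))
    (hsub : top (D.support : Set X) 1 ⊆ T) :
    ∃ a : X → ℕ, D = ∏ ξ ∈ T, curveOf ξ ^ a ξ := by
  classical
  haveI := CurveRR.isNoetherian_of_proper k X
  obtain ⟨a, ha⟩ := DivPart.exists_eq_prod D hD T.card (fun i => curveOf (T.equivFin.symm i).1)
    (fun i => cartier_curveOf k hdim hreg (hT _ (T.equivFin.symm i).2)) (fun i => inferInstance) fun y hy => by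
      obtain ⟨ξ, hξ, hξy⟩ := exists_top_specializes k hdim hD hy
      refine Set.mem_iUnion.2 ⟨T.equivFin ⟨ξ, hsub hξ⟩, ?_⟩
      simp only [Equiv.symm_apply_apply, support_curveOf]
      exact specializes_iff_mem_closure.mp hξy
  refine ⟨fun ξ => if h : ξ ∈ T then a (T.equivFin ⟨ξ, h⟩) else 0, ha.trans ?_⟩
  rw [← Finset.prod_coe_sort T]
  refine Fintype.prod_equiv T.equivFin.symm _ _ fun i => ?_
  simp

/-- The degree of `O(I)` on the curve with generic point `γ`. -/
def ν (γ : X) (I : X.IdealSheafData) : ℚ := -degOn k (curveOf γ) (ClSub.idealMod I)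

variable {γ : X} (hγ : topologicalKrullDim (closure {γ} : Set X) = ((1 : ℕ) : WithBot ℕ∞))

include hγ in
theorem support_dim_curveOf : topologicalKrullDim ((curveOf γ).support : Set X) = 1 := by
  rw [support_curveOf, hγ]
  rfl


include hγ in
theorem ν_mul {I J : X.IdealSheafData} (hI : BlowUp.IsEffCartierIdeal I) (hJ : BlowUp.IsEffCartierIdeal J) :
    ν k γ (I * J) = ν k γ I + ν k γ J := by
  obtain ⟨e⟩ := nonempty_idealMod_mul hI hJ
  rw [ν, ν, ν, ← degOn_iso k _ e, degOn_tensor k _ (support_dim_curveOf hγ)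
    ((Groth.Agent.S8914.result I).2 hI) ((Groth.Agent.S8914.result J).2 hJ)]
  ring


include hγ in
theorem ν_top : ν k γ (⊤ : X.IdealSheafData) = 0 := by
  have h := ν_mul k hγ (BlowUpLib.cartier_top (X := X)) BlowUpLib.cartier_top
  rw [show (⊤ : X.IdealSheafData) * ⊤ = ⊤ from (congrArg (· * (⊤ : X.IdealSheafData))
    (Scheme.IdealSheafData.one_eq_top (X := X)).symm).trans (one_mul _)] at h
  linarith


include hγ in
theorem ν_pow {I : X.IdealSheafData} (hI : BlowUp.IsEffCartierIdeal I) :
    ∀ n : ℕ, ν k γ (I ^ n) = (n : ℚ) * ν k γ I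
  | 0 => by rw [pow_zero, Scheme.IdealSheafData.one_eq_top, ν_top k hγ, Nat.cast_zero, zero_mul]
  | n + 1 => by
    rw [pow_succ, ν_mul k hγ (DivPart.cartier_pow hI n) hI, ν_pow hI n]
    push_cast
    ring


theorem cartier_prod (T : Finset X) (a : X → ℕ) (hT : ∀ ξ ∈ T, BlowUp.IsEffCartierIdeal (curveOf ξ)) :
    BlowUp.IsEffCartierIdeal (∏ ξ ∈ T, curveOf ξ ^ a ξ) :=
  Finset.prod_induction _ BlowUp.IsEffCartierIdeal (fun _ _ => BlowUpLib.cartier_mul)
    (by rw [Scheme.IdealSheafData.one_eq_top]; exact BlowUpLib.cartier_top) fun ξ hξ => DivPart.cartier_pow (hT ξ hξ) _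


include hγ in
theorem ν_prod (T : Finset X) (a : X → ℕ) (hT : ∀ ξ ∈ T, BlowUp.IsEffCartierIdeal (curveOf ξ)) :
    ν k γ (∏ ξ ∈ T, curveOf ξ ^ a ξ) = ∑ ξ ∈ T, (a ξ : ℚ) * ν k γ (curveOf ξ) := by
  classical
  induction T using Finset.induction with
  | empty => rw [Finset.prod_empty, Scheme.IdealSheafData.one_eq_top, ν_top k hγ, Finset.sum_empty]
  | insert ξ T hn ih =>
    have hT' : ∀ ζ ∈ T, BlowUp.IsEffCartierIdeal (curveOf ζ) := fun ζ h => hT ζ (Finset.mem_insert_of_mem h)
    rw [Finset.prod_insert hn, Finset.sum_insert hn,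
      ν_mul k hγ (DivPart.cartier_pow (hT ξ (Finset.mem_insert_self _ _)) _) (cartier_prod T a hT'),
      ν_pow k hγ (hT ξ (Finset.mem_insert_self _ _)), ih hT']


theorem ν_congr {I J : X.IdealSheafData} (e : Nonempty (ClSub.idealMod I ≅ ClSub.idealMod J)) :
    ν k γ I = ν k γ J := congrArg Neg.neg (degOn_iso k _ e.some)

include hγ in
theorem ν_nonneg {I : X.IdealSheafData} (hI : BlowUp.IsEffCartierIdeal I) (hne : γ ∉ I.support) :
    0 ≤ ν k γ I := by
  have h := deg_ideal_nonpos k hI (curveOf γ) (support_dim_curveOf hγ) (by rwa [genericPoint_curveOf])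
  have h' : (Curv2.euler k X (CohB1.tensorMod (ClSub.quotMod (curveOf γ)) (ClSub.idealMod I)) : ℚ) -
      Curv2.euler k X (ClSub.quotMod (curveOf γ)) ≤ 0 := by exact_mod_cast h
  rw [ν, degOn]
  linarith

include hγ in
theorem ν_pos {I : X.IdealSheafData} (hI : BlowUp.IsEffCartierIdeal I) (hne : γ ∉ I.support)
    {y : X} (hy : γ ⤳ y) (hyI : y ∈ I.support) : 0 < ν k γ I := by
  refine lt_of_le_of_ne (ν_nonneg k hγ hI hne) fun h0 => ?_
  let Γc := curveOf γ
  letI : Γc.subscheme.Over (Spec (CommRingCat.of k)) := ⟨Γc.subschemeι ≫ (X ↘ Spec (CommRingCat.of k))⟩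
  haveI : IsProper (Γc.subscheme ↘ Spec (CommRingCat.of k)) := inferInstanceAs (IsProper (Γc.subschemeι ≫ _))
  obtain ⟨hd, he⟩ := deg_quot_eq k Γc (support_dim_curveOf hγ) ((Groth.Agent.S8914.result I).2 hI)
  have hgen : ∀ z : Γc.subscheme, (∀ w, w ⤳ z → w = z) → Γc.subschemeι z ∉ I.support := fun z hz => by
    rw [← hz _ (genericPoint_specializes z), genericPoint_curveOf]
    exact hne
  have hc := Groth.Agent.S8862.result Γc.subschemeι I hI hgen
  obtain ⟨e⟩ := nonempty_pullback_idealMod Γc.subschemeι hI hc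
  have hJ := (Groth.Agent.S8914.result (I.comap Γc.subschemeι)).2 hc
  have hφ : ClSub.idealModι (I.comap Γc.subschemeι) ≠ 0 := fun h0' => by
    obtain ⟨U, g, hxU, hg⟩ := TMul.exists_isGen hJ (genericPoint Γc.subscheme)
    haveI : Nonempty U := ⟨⟨_, hxU⟩⟩
    have hz : g = 0 := Groth.Agent.QC.app_injective_of_mono (ClSub.idealModι (I.comap Γc.subschemeι)) U
      (by rw [h0']; simp)
    have h2 := (hg U le_rfl).1 (a₁ := (1 : Γ(Γc.subscheme, U))) (a₂ := 0)
    simp only [Groth.Agent.QC.res_self, hz, smul_zero] at h2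
    exact one_ne_zero (h2 trivial)
  have hz : Curv2.euler k X (CohB1.tensorMod (ClSub.quotMod Γc) (ClSub.idealMod I)) -
      Curv2.euler k X (ClSub.quotMod Γc) = 0 := by
    rw [ν, degOn] at h0
    have h0' : ((Curv2.euler k X (CohB1.tensorMod (ClSub.quotMod Γc) (ClSub.idealMod I)) -
      Curv2.euler k X (ClSub.quotMod Γc) : ℤ) : ℚ) = 0 := by push_cast; linarith
    exact_mod_cast h0'
  haveI : IsIso (ClSub.idealModι (I.comap Γc.subschemeι)) :=
    (CurveRR.deg_le_and_isIso (k := k) hd hJ TMul.isInvertible_structureModule _ hφ).2 (by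
      rw [CurveRR.deg_structure, ← hz, ← he]
      simp only [Curv2.deg]
      rw [CurveRR.euler_eq_of_iso e])
  have hS := CurveRR.ideal_shortExact (I.comap Γc.subschemeι)
  haveI : Epi (ClSub.toSubscheme (I.comap Γc.subschemeι)) := hS.epi_g
  have h0q : IsZero (ClSub.quotMod (I.comap Γc.subschemeι)) := by
    refine IsZero.of_epi_eq_zero (ClSub.toSubscheme (I.comap Γc.subschemeι)) ?_
    rw [← cancel_epi (ClSub.idealModι (I.comap Γc.subschemeι)), comp_zero]
    exact kernel.condition _
  obtain ⟨v, hv⟩ : y ∈ Set.range Γc.subschemeι := by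
    rw [Γc.range_subschemeι, support_curveOf]
    exact specializes_iff_mem_closure.mp hy
  have hvs : v ∈ ((I.comap Γc.subschemeι).support : Set Γc.subscheme) := by
    rw [Scheme.IdealSheafData.support_comap]
    show Γc.subschemeι v ∈ I.support
    rw [hv]; exact hyI
  have h4 := Intersect.subset_support_quotMod (I.comap Γc.subschemeι) hvs
  rw [Devissage.support_of_isZero h0q] at h4
  exact h4

end Groth.Agent.SurfAmple
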