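import Mathlib

/-!
Positive combinations on connected configurations.
-/

set_option autoImplicit false

namespace Groth.Agent.SurfAmple

open Finset

/-- From a nonzero nonnegative combination to a positive one. -/
theorem exists_pos {α : Type*} [DecidableEq α] (B : Finset α) (δ : α → α → ℚ)
    (hoff : ∀ i ∈ B, ∀ j ∈ B, i ≠ j → 0 ≤ δ i j)
    (hconn : ∀ S ⊆ B, S.Nonempty → S ≠ B → ∃ i ∈ B, i ∉ S ∧ ∃ j ∈ S, 0 < δ i j)
    (p : α → ℕ) (hp : ∀ i ∈ B, 0 ≤ ∑ j ∈ B, (p j : ℚ) * δ i j)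
    (hp' : ∃ i ∈ B, 0 < ∑ j ∈ B, (p j : ℚ) * δ i j) :
    ∃ a : α → ℕ, ∀ i ∈ B, 0 < ∑ j ∈ B, (a j : ℚ) * δ i j := by
  obtain ⟨n, hn⟩ : ∃ n, (B.filter fun i => ¬ 0 < ∑ j ∈ B, (p j : ℚ) * δ i j).card = n := ⟨_, rfl⟩
  induction n using Nat.strong_induction_on generalizing p with
  | _ n ih =>
    classical
    let S := B.filter fun i => 0 < ∑ j ∈ B, (p j : ℚ) * δ i j
    by_cases hS : S = B
    · exact ⟨p, fun i hi => (Finset.mem_filter.1 (hS.symm ▸ hi : i ∈ S)).2⟩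
    obtain ⟨i₀, hi₀, hv₀⟩ := hp'
    obtain ⟨ξ, hξ, hξS, ζ, hζS, hδ⟩ := hconn S (Finset.filter_subset _ _)
      ⟨i₀, Finset.mem_filter.2 ⟨hi₀, hv₀⟩⟩ hS
    obtain ⟨hζ, hvζ⟩ := Finset.mem_filter.1 hζS
    obtain ⟨N, hN⟩ := exists_nat_gt (max 0 (-δ ζ ζ) / ∑ j ∈ B, (p j : ℚ) * δ ζ j)
    let p' : α → ℕ := fun j => N * p j + if j = ζ then 1 else 0
    have hv : ∀ i, ∑ j ∈ B, (p' j : ℚ) * δ i j = (N : ℚ) * ∑ j ∈ B, (p j : ℚ) * δ i j + δ i ζ := fun i => by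
      rw [Finset.mul_sum]
      have e : ∀ j ∈ B, (p' j : ℚ) * δ i j = (N : ℚ) * ((p j : ℚ) * δ i j) + (if j = ζ then δ i j else 0) := by
        intro j _
        simp only [p']
        split_ifs <;> push_cast <;> ring
      rw [Finset.sum_congr rfl e, Finset.sum_add_distrib, Finset.sum_ite_eq' B ζ (fun j => δ i j), if_pos hζ]
    have hpos : ∀ i ∈ B, 0 < ∑ j ∈ B, (p j : ℚ) * δ i j → 0 < ∑ j ∈ B, (p' j : ℚ) * δ i j := by
      intro i hi h
      rw [hv]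
      rw [div_lt_iff₀ hvζ] at hN
      have hm := le_max_left (0 : ℚ) (-δ ζ ζ)
      rcases eq_or_ne i ζ with rfl | hne
      · linarith [le_max_right (0 : ℚ) (-δ i i)]
      · have hN0 : (0 : ℚ) < N := pos_of_mul_pos_left (hm.trans_lt hN) hvζ.le
        have := mul_pos hN0 h
        linarith [hoff i hi ζ hζ hne]
    have hξ' : 0 < ∑ j ∈ B, (p' j : ℚ) * δ ξ j := by
      rw [hv]
      have := mul_nonneg (Nat.cast_nonneg N : (0 : ℚ) ≤ N) (hp ξ hξ)
      linarith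
    refine ih _ ?_ p' (fun i hi => ?_) ⟨ξ, hξ, hξ'⟩ rfl
    · subst hn
      refine Finset.card_lt_card ((Finset.ssubset_iff_of_subset fun i hi => ?_).2 ⟨ξ, ?_, ?_⟩)
      · obtain ⟨h1, h2⟩ := Finset.mem_filter.1 hi
        exact Finset.mem_filter.2 ⟨h1, fun h => h2 (hpos i h1 h)⟩
      · exact Finset.mem_filter.2 ⟨hξ, fun h => hξS (Finset.mem_filter.2 ⟨hξ, h⟩)⟩
      · exact fun h => (Finset.mem_filter.1 h).2 hξ'
    · by_cases h : 0 < ∑ j ∈ B, (p j : ℚ) * δ i j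
      · exact (hpos i hi h).le
      · rw [hv]
        have := mul_nonneg (Nat.cast_nonneg N : (0 : ℚ) ≤ N) (hp i hi)
        rcases eq_or_ne i ζ with rfl | hne
        · exact absurd hvζ h
        · linarith [hoff i hi ζ hζ hne]

/-- Cancelling the common part of two divisors. -/
theorem exists_cancel {α : Type*} (a b : α → ℕ) :
    ∃ m p q : α → ℕ, (∀ j, a j = m j + p j) ∧ (∀ j, b j = m j + q j) ∧ ∀ j, p j = 0 ∨ q j = 0 :=
  ⟨fun j => min (a j) (b j), fun j => a j - b j, fun j => b j - a j, fun j => by simp only; omega, fun j => by simp only; omega,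
    fun j => by simp only; omega⟩

end Groth.Agent.SurfAmple
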