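import Groth.Agent.SurfAmple.Curves
import Groth.Agent.SurfAmple.Graph
import Groth.Agent.Nakai.Strict
import Groth.Agent.Nakai.SurfSeq
import Groth.Agent.Nakai.RealClass
import Groth.Agent.ResDesc.CartierFam
import Groth.Agent.DualGeneric.GlobalField
import Groth.Agent.S1687
import Groth.Agent.S7821
import Groth.Agent.S18353
import Groth.Agent.LefZero.Inverse

/-!
An ample divisor supported on the complement of an affine open of a regular proper surface.
-/

set_option autoImplicit false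
set_option backward.isDefEq.respectTransparency false
set_option linter.style.haveILetI false
set_option linter.unusedSectionVars false

universe u

open CategoryTheory CategoryTheory.Limits AlgebraicGeometry TopologicalSpace
open Groth.Agent.Intersect Groth.Agent.Nakai

attribute [local instance] Groth.Agent.Nakai.clMonoid

noncomputable section

namespace Groth.Agent.SurfAmple

variable {X : Scheme.{u}}

theorem mem_support_pow (I : X.IdealSheafData) (x : X) : ∀ n : ℕ,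
    x ∈ ((I ^ n).support : Set X) ↔ n ≠ 0 ∧ x ∈ (I.support : Set X)
  | 0 => by simp [Scheme.IdealSheafData.one_eq_top]
  | n + 1 => by
    rw [pow_succ, Scheme.IdealSheafData.support_mul]
    simp only [Closeds.coe_sup, Set.mem_union, mem_support_pow I x n]
    tauto

theorem mem_support_prod (T : Finset X) (a : X → ℕ) (x : X) :
    x ∈ ((∏ ξ ∈ T, curveOf ξ ^ a ξ).support : Set X) ↔ ∃ ξ ∈ T, a ξ ≠ 0 ∧ ξ ⤳ x := by
  classical
  induction T using Finset.induction with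
  | empty => simp [Scheme.IdealSheafData.one_eq_top]
  | insert ξ T hn ih =>
    rw [Finset.prod_insert hn, Scheme.IdealSheafData.support_mul, Closeds.coe_sup, Set.mem_union,
      mem_support_pow, ih, support_curveOf, ← specializes_iff_mem_closure, Finset.exists_mem_insert]

theorem cl_idealMod_mul {I J : X.IdealSheafData} (hI : BlowUp.IsEffCartierIdeal I)
    (hJ : BlowUp.IsEffCartierIdeal J) :
    PicF.cl (ClSub.idealMod (I * J)) = PicF.cl (ClSub.idealMod I) * PicF.cl (ClSub.idealMod J) := by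
  rw [← cl_tensor]
  exact ((PicGrp.cl_eq_cl_iff _ _).2 (nonempty_idealMod_mul hI hJ)).symm

variable (k : Type u) [Field k] [X.Over (Spec (CommRingCat.of k))] [IsProper (X ↘ Spec (CommRingCat.of k))]

include k in
/-- A curve on a proper scheme does not lie in an affine open. -/
theorem exists_notMem_affine {U : X.Opens} (hU : IsAffineOpen U) {γ : X}
    (hγ : topologicalKrullDim (closure {γ} : Set X) = ((1 : ℕ) : WithBot ℕ∞)) :
    ∃ y, γ ⤳ y ∧ y ∉ U := by
  by_contra! h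
  haveI : IsAffine (U : Scheme.{u}) := hU
  let i := Devissage.Zi γ
  let Z := (curveOf γ).subscheme
  have hr : Set.range i ⊆ Set.range U.ι := by
    rw [Devissage.range_Zi, Scheme.Opens.range_ι]
    exact fun y hy => h y (specializes_iff_mem_closure.mpr hy)
  let j : Z ⟶ (U : Scheme.{u}) := IsOpenImmersion.lift U.ι i hr
  have hj : j ≫ U.ι = i := IsOpenImmersion.lift_fac _ _ _
  haveI : IsClosedImmersion (j ≫ U.ι) := by rw [hj]; infer_instance
  haveI : IsClosedImmersion j := IsClosedImmersion.of_comp j U.ι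
  haveI : IsAffine Z := isAffine_of_isAffineHom j
  haveI : IsProper (i ≫ (X ↘ Spec (CommRingCat.of k))) := inferInstance
  haveI : IsFinite (i ≫ (X ↘ Spec (CommRingCat.of k))) :=
    IsFinite.iff_isProper_and_isAffineHom.mpr ⟨inferInstance, inferInstance⟩
  haveI : Finite Z := by
    have hf := (i ≫ (X ↘ Spec (CommRingCat.of k))).finite_preimage (s := Set.univ) Set.finite_univ
    exact Set.finite_univ_iff.mp (by simpa using hf)
  have hfin : ((curveOf γ).support : Set X).Finite := by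
    rw [← (curveOf γ).range_subschemeι]
    exact Set.finite_range _
  have hd := dim_le_zero_of_finite k (curveOf γ) hfin
  rw [support_curveOf, hγ] at hd
  exact absurd hd (by decide)

variable [IsIntegral X]

include k in
theorem support_empty_of_iso_one {K : X.IdealSheafData} (hK : BlowUp.IsEffCartierIdeal K)
    (hη : genericPoint X ∉ (K.support : Set X))
    (e : Nonempty (ClSub.idealMod K ≅ Coh.structureModule X)) : (K.support : Set X) = ∅ := by
  obtain ⟨σ, hσ⟩ := ResDesc.exists_section_of_inverse K hK TMul.isInvertible_structureModule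
    (TMul.leftUnitIso _ ≪≫ e.some)
  obtain ⟨c, hc⟩ : ∃ c : Γ(X, ⊤), TMul.val σ ⊤ = c • (1 : Γ(X, ⊤)) :=
    ⟨TMul.val σ ⊤, (mul_one (M := Γ(X, ⊤)) _).symm⟩
  have hiff : ∀ x : X, x ∈ CohB1.genLocus _ σ ↔ IsUnit (X.presheaf.germ ⊤ x trivial c) := fun x =>
    TMul.mem_genLocus_iff_isUnit σ (TMul.isGen_one ⊤) hc trivial
  have hg : genericPoint X ∈ CohB1.genLocus _ σ := by rw [hσ]; exact hη
  haveI : Nonempty X := ⟨genericPoint X⟩
  have hu : IsUnit c := by
    obtain ⟨d, hd⟩ := (DualGeneric.isField_gamma k (X := X)).mul_inv_cancel (a := c) (fun h0 => by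
      have h1 := (hiff _).1 hg
      rw [h0, map_zero] at h1
      exact not_isUnit_zero h1)
    exact IsUnit.of_mul_eq_one d hd
  refine Set.eq_empty_of_forall_notMem fun x hx => ?_
  have h1 : x ∈ CohB1.genLocus _ σ := (hiff x).2 (hu.map _)
  rw [hσ] at h1
  exact h1 hx

variable (hdim : topologicalKrullDim X = 2) (hreg : ∀ x : X, IsRegularLocalRing (X.presheaf.stalk x))

include k hdim hreg in
/-- The numerical core: curves outside `U` and a combination of them positive on all of them. -/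
theorem exists_positive (U : X.affineOpens) (hU : ((U : X.Opens) : Set X).Nonempty) :
    ∃ (B : Finset X) (a : X → ℕ), (∀ ξ ∈ B, topologicalKrullDim (closure {ξ} : Set X) = ((1 : ℕ) : WithBot ℕ∞)) ∧
      (∀ x : X, x ∉ (U : X.Opens) ↔ ∃ ξ ∈ B, ξ ⤳ x) ∧
      ∀ ξ ∈ B, 0 < ∑ ζ ∈ B, ((a ζ + 1 : ℕ) : ℚ) * ν k ξ (curveOf ζ) := by
  classical
  haveI := CurveRR.isNoetherian_of_proper k X
  haveI : X.IsSeparated := ⟨by
    rw [← terminal.comp_from (X ↘ Spec (CommRingCat.of k))]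
    infer_instance⟩
  have hdense : Dense ((U : X.Opens) : Set X) := (U : X.Opens).isOpen.dense hU
  obtain ⟨D₀, hD₀, hsupp⟩ := Groth.Agent.S1687.result X (fun V W hV hW => hV.inf hW) U U.2 hdense fun x _ => by
    haveI := hreg x
    exact Groth.Agent.S2821.result _
  obtain ⟨B, hB⟩ : ∃ B : Finset X, ∀ ξ, ξ ∈ B ↔ ξ ∈ top (D₀.support : Set X) 1 :=
    ⟨(finite_top D₀.support.isClosed (dim_support_le k hdim hD₀)).toFinset, fun ξ => Set.Finite.mem_toFinset _⟩
  have hB1 : ∀ ξ ∈ B, topologicalKrullDim (closure {ξ} : Set X) = ((1 : ℕ) : WithBot ℕ∞) := fun ξ hξ =>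
    ((hB ξ).1 hξ).2
  have hout : ∀ x : X, x ∉ (U : X.Opens) ↔ ∃ ξ ∈ B, ξ ⤳ x := fun x => by
    have hx : x ∈ (D₀.support : Set X) ↔ x ∉ (U : X.Opens) := by rw [hsupp]; rfl
    refine ⟨fun h => ?_, fun ⟨ξ, hξ, hξx⟩ => ?_⟩
    · obtain ⟨ξ, hξ, hξx⟩ := exists_top_specializes k hdim hD₀ (hx.2 h)
      exact ⟨ξ, (hB ξ).2 hξ, hξx⟩
    · exact hx.1 (hξx.mem_closed D₀.support.isClosed ((hB ξ).1 hξ).1)
  have hBU : ∀ ξ ∈ B, ξ ∉ (U : X.Opens) := fun ξ hξ => (hout ξ).2 ⟨ξ, hξ, specializes_rfl⟩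
  have hnot : ∀ {ξ ζ : X}, topologicalKrullDim (closure {ξ} : Set X) = ((1 : ℕ) : WithBot ℕ∞) →
      topologicalKrullDim (closure {ζ} : Set X) = ((1 : ℕ) : WithBot ℕ∞) → ξ ≠ ζ →
      ξ ∉ ((curveOf ζ).support : Set X) := by
    intro ξ ζ h1 h2 hne hm
    rw [support_curveOf, ← specializes_iff_mem_closure] at hm
    exact hne (eq_of_dim hm h2.le h1).symm
  have hoff : ∀ {ξ ζ : X}, topologicalKrullDim (closure {ξ} : Set X) = ((1 : ℕ) : WithBot ℕ∞) →
      topologicalKrullDim (closure {ζ} : Set X) = ((1 : ℕ) : WithBot ℕ∞) → ξ ≠ ζ →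
      0 ≤ ν k ξ (curveOf ζ) := fun h1 h2 hne =>
    ν_nonneg k h1 (cartier_curveOf k hdim hreg h2) (hnot h1 h2 hne)
  have hmeet : ∀ {ξ ζ y : X}, topologicalKrullDim (closure {ξ} : Set X) = ((1 : ℕ) : WithBot ℕ∞) →
      topologicalKrullDim (closure {ζ} : Set X) = ((1 : ℕ) : WithBot ℕ∞) → ξ ≠ ζ → ξ ⤳ y → ζ ⤳ y →
      0 < ν k ξ (curveOf ζ) := fun {ξ ζ y} h1 h2 hne hy hy' =>
    ν_pos k h1 (cartier_curveOf k hdim hreg h2) (hnot h1 h2 hne) hy (by
      show y ∈ ((curveOf ζ).support : Set X)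
      rw [support_curveOf]; exact specializes_iff_mem_closure.mp hy')
  have hC := Groth.Agent.S7821.result k (X ↘ Spec (CommRingCat.of k)) hdim U hU
  have hconn : ∀ S ⊆ B, S.Nonempty → S ≠ B → ∃ i ∈ B, i ∉ S ∧ ∃ j ∈ S, 0 < ν k i (curveOf j) := by
    intro S hS hne hneB
    let A : Finset X → Set X := fun T => ⋃ ξ ∈ T, closure {ξ}
    have hcl : ∀ T : Finset X, IsClosed (A T) := fun T => isClosed_biUnion_finset fun _ _ => isClosed_closure
    obtain ⟨i₀, hi₀⟩ : (B \ S).Nonempty := Finset.sdiff_nonempty.2 fun h => hneB (Finset.Subset.antisymm hS h)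
    obtain ⟨j₀, hj₀⟩ := hne
    obtain ⟨y, hy, hyS, hyS'⟩ := isPreconnected_closed_iff.1 hC.isPreconnected (A S) (A (B \ S)) (hcl _) (hcl _)
      (fun x hx => by
        obtain ⟨ξ, hξ, hξx⟩ := (hout x).1 hx
        by_cases h : ξ ∈ S
        · exact Or.inl (Set.mem_iUnion₂.2 ⟨ξ, h, specializes_iff_mem_closure.mp hξx⟩)
        · exact Or.inr (Set.mem_iUnion₂.2 ⟨ξ, Finset.mem_sdiff.2 ⟨hξ, h⟩, specializes_iff_mem_closure.mp hξx⟩))
      ⟨j₀, hBU _ (hS hj₀), Set.mem_iUnion₂.2 ⟨j₀, hj₀, subset_closure rfl⟩⟩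
      ⟨i₀, hBU _ (Finset.mem_sdiff.1 hi₀).1, Set.mem_iUnion₂.2 ⟨i₀, hi₀, subset_closure rfl⟩⟩
    obtain ⟨j, hj, hjy⟩ := Set.mem_iUnion₂.1 hyS
    obtain ⟨i, hi, hiy⟩ := Set.mem_iUnion₂.1 hyS'
    rw [Finset.mem_sdiff] at hi
    exact ⟨i, hi.1, hi.2, j, hj, hmeet (hB1 i hi.1) (hB1 j (hS hj)) (fun h => hi.2 (h ▸ hj))
      (specializes_iff_mem_closure.mpr hiy) (specializes_iff_mem_closure.mpr hjy)⟩
  -- a function on `U` with a zero
  obtain ⟨L₀, hL₀, ⟨e₀⟩⟩ := W7Hull.exists_tensor_inverse ((Groth.Agent.S8914.result D₀).2 hD₀)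
  obtain ⟨σ, hσ⟩ := ResDesc.exists_section_of_inverse D₀ hD₀ hL₀ (TMul.commIso L₀ _ ≪≫ e₀)
  have hσU : CohB1.genLocus L₀ σ = (U : X.Opens) := by
    rw [hσ]
    refine Opens.ext ?_
    show (D₀.support : Set X)ᶜ = _
    rw [hsupp, compl_compl]
  haveI : JacobsonSpace X := LocallyOfFiniteType.jacobsonSpace (X ↘ Spec (CommRingCat.of k))
  obtain ⟨u₀, hu₀U, hu₀⟩ := nonempty_inter_closedPoints hU (U : X.Opens).isOpen.isLocallyClosed
  have hηU : genericPoint X ∈ (U : X.Opens) := (genericPoint_specializes _).mem_open (U : X.Opens).isOpen hU.some_mem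
  obtain ⟨f, hf0, hfu⟩ : ∃ f : Γ(X, CohB1.genLocus L₀ σ), f ≠ 0 ∧ u₀ ∉ X.basicOpen f := by
    have hUa : IsAffineOpen (CohB1.genLocus L₀ σ) := hσU.symm ▸ U.2
    have hmem : u₀ ∈ CohB1.genLocus L₀ σ := hσU.symm ▸ hu₀U
    have hηm : genericPoint X ∈ CohB1.genLocus L₀ σ := hσU.symm ▸ hηU
    have hne : hUa.primeIdealOf ⟨u₀, hmem⟩ ≠ hUa.primeIdealOf ⟨genericPoint X, hηm⟩ := fun h => by
      have h' := congrArg hUa.fromSpec h
      rw [hUa.fromSpec_primeIdealOf, hUa.fromSpec_primeIdealOf] at h'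
      simp only at h'
      have huniv : ({u₀} : Set X) = Set.univ := by
        rw [← hu₀.closure_eq, h']; exact genericPoint_spec X
      haveI : Subsingleton X := Set.subsingleton_univ_iff.mp (huniv ▸ Set.subsingleton_singleton)
      have h0 : topologicalKrullDim X ≤ 0 := topologicalKrullDim_zero_of_discreteTopology X
      rw [hdim] at h0
      exact absurd h0 (by decide)
    have hle : (hUa.primeIdealOf ⟨genericPoint X, hηm⟩).asIdeal ≤ (hUa.primeIdealOf ⟨u₀, hmem⟩).asIdeal :=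
      DivPart.pr_le_of_specializes ⟨_, hUa⟩ hmem hηm (genericPoint_specializes _)
    obtain ⟨f, hf, hf'⟩ := Set.exists_of_ssubset (lt_of_le_of_ne hle fun h => hne (PrimeSpectrum.ext (SetLike.coe_injective h.symm)))
    exact ⟨f, fun h => hf' (h ▸ Submodule.zero_mem _), fun h =>
      (WeakAssLib.mem_primeIdealOf hUa hmem f).mp h hf⟩
  obtain ⟨n, t, ht⟩ := TMul.exists_genLocus_eq_basicOpen hL₀ σ f
  let N := CohB1.tensorPow L₀ (n + 1)
  have hN : PicF.IsInvertible N := TMul.isInvertible_tensorPow hL₀ _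
  have hηt : genericPoint X ∈ CohB1.genLocus N t := by
    rw [ht]
    obtain ⟨x, hx⟩ : ((X.basicOpen f : X.Opens) : Set X).Nonempty := by
      rw [Set.nonempty_iff_ne_empty]
      intro h
      exact hf0 ((basicOpen_eq_bot_iff f).1 (Opens.ext h))
    exact (genericPoint_specializes x).mem_open (X.basicOpen f).isOpen hx
  haveI : Mono t := CurveRR.mono_of_ne_zero TMul.isInvertible_structureModule hN t fun h0 => by
    rw [h0, TMul.genLocus_zero] at hηt
    exact hηt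
  obtain ⟨hK, hKN⟩ := LefZero.isInverseOf_zeroScheme hN t
  have hu₀K : u₀ ∈ ((PicF2.zeroScheme N t).support : Set X) := by
    rw [NegTwist.coe_support_zeroScheme hN t, ht]
    exact hfu
  generalize hKdef : PicF2.zeroScheme N t = K at hK hKN hu₀K
  clear hKdef
  let J := D₀ ^ (n + 1)
  have hJ : BlowUp.IsEffCartierIdeal J := DivPart.cartier_pow hD₀ _
  have hJK : PicF.cl (ClSub.idealMod J) = PicF.cl (ClSub.idealMod K) := by
    have h0 : PicF.cl (ClSub.idealMod D₀) * PicF.cl L₀ = 1 := cl_inv ⟨e₀⟩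
    have h1 : PicF.cl N * PicF.cl (ClSub.idealMod K) = 1 := cl_inv hKN
    have hpow : ∀ m : ℕ, PicF.cl (ClSub.idealMod (D₀ ^ (m + 1))) = PicF.cl (ClSub.idealMod D₀) ^ (m + 1) := by
      intro m
      induction m with
      | zero => rw [zero_add, pow_one, pow_one]
      | succ m ih => rw [pow_succ, cl_idealMod_mul (DivPart.cartier_pow hD₀ _) hD₀, ih, ← pow_succ]
    rw [cl_pow] at h1
    calc PicF.cl (ClSub.idealMod J) = PicF.cl (ClSub.idealMod D₀) ^ (n + 1) * 1 := by rw [mul_one, hpow]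
      _ = (PicF.cl (ClSub.idealMod D₀) * PicF.cl L₀) ^ (n + 1) * PicF.cl (ClSub.idealMod K) := by
          rw [← h1, mul_pow, mul_assoc]
      _ = _ := by rw [h0, one_pow, one_mul]
  -- decompose
  obtain ⟨BK, hBK⟩ : ∃ BK : Finset X, ∀ ξ, ξ ∈ BK ↔ ξ ∈ top (K.support : Set X) 1 :=
    ⟨(finite_top K.support.isClosed (dim_support_le k hdim hK)).toFinset, fun ξ => Set.Finite.mem_toFinset _⟩
  let T := B ∪ BK
  have hT : ∀ ξ ∈ T, topologicalKrullDim (closure {ξ} : Set X) = ((1 : ℕ) : WithBot ℕ∞) := fun ξ hξ =>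
    (Finset.mem_union.1 hξ).elim (hB1 ξ) fun h => ((hBK ξ).1 h).2
  have hTc : ∀ ξ ∈ T, BlowUp.IsEffCartierIdeal (curveOf ξ) := fun ξ hξ => cartier_curveOf k hdim hreg (hT ξ hξ)
  have hJsupp : (J.support : Set X) = (D₀.support : Set X) := by
    ext x
    rw [mem_support_pow]
    exact and_iff_right (Nat.succ_ne_zero n)
  obtain ⟨a, ha⟩ := exists_eq_prod k hdim hreg hJ T hT fun ξ hξ => by
    rw [hJsupp] at hξ
    exact Finset.mem_union_left _ ((hB ξ).2 hξ)
  obtain ⟨b, hb⟩ := exists_eq_prod k hdim hreg hK T hT fun ξ hξ => Finset.mem_union_right _ ((hBK ξ).2 hξ)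
  obtain ⟨m, p, q, hap, hbq, hpq⟩ := exists_cancel a b
  have hsupp_a : ∀ ξ ∈ T, a ξ ≠ 0 → ξ ∈ B := fun ξ hξ hne => by
    have h : ξ ∈ (J.support : Set X) := by
      rw [ha, mem_support_prod]
      exact ⟨ξ, hξ, hne, specializes_rfl⟩
    obtain ⟨ζ, hζ, hζξ⟩ := (hout ξ).1 (by
      rw [hJsupp, hsupp] at h; exact h)
    exact eq_of_dim hζξ (hB1 ζ hζ).le (hT ξ hξ) ▸ hζ
  have hp0 : ∀ ξ ∈ T, ξ ∉ B → p ξ = 0 := fun ξ hξ hn => by
    by_contra h
    exact hn (hsupp_a ξ hξ (by rw [hap]; omega))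
  have hcancel : PicF.cl (ClSub.idealMod (∏ ξ ∈ T, curveOf ξ ^ p ξ)) =
      PicF.cl (ClSub.idealMod (∏ ξ ∈ T, curveOf ξ ^ q ξ)) := by
    have hsplit : ∀ (c d : X → ℕ), (∀ ξ, c ξ = m ξ + d ξ) →
        (∏ ξ ∈ T, curveOf ξ ^ c ξ) = (∏ ξ ∈ T, curveOf ξ ^ m ξ) * ∏ ξ ∈ T, curveOf ξ ^ d ξ := fun c d h => by
      rw [← Finset.prod_mul_distrib]
      exact Finset.prod_congr rfl fun ξ _ => by rw [h, pow_add]
    have h := hJK
    rw [ha, hb, hsplit a p hap, hsplit b q hbq, cl_idealMod_mul (cartier_prod T m hTc) (cartier_prod T p hTc),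
      cl_idealMod_mul (cartier_prod T m hTc) (cartier_prod T q hTc)] at h
    obtain ⟨M, hM, hMi⟩ := W7Hull.exists_tensor_inverse ((Groth.Agent.S8914.result _).2 (cartier_prod T m hTc))
    have hu := cl_inv hMi
    have key : ∀ c : PicF.Cl X,
        c = PicF.cl M * (PicF.cl (ClSub.idealMod (∏ ξ ∈ T, curveOf ξ ^ m ξ)) * c) := fun c => by
      rw [← mul_assoc, mul_comm (PicF.cl M), hu, one_mul]
    rw [key (PicF.cl (ClSub.idealMod (∏ ξ ∈ T, curveOf ξ ^ p ξ))), h, ← key]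
  obtain ⟨ζ₀, hζ₀T, hqζ₀, hζ₀U, hζ₀u⟩ : ∃ ζ ∈ T, 0 < q ζ ∧ ζ ∈ (U : X.Opens) ∧ ζ ⤳ u₀ := by
    rw [hb, mem_support_prod] at hu₀K
    obtain ⟨ζ, hζ, hne, hζu⟩ := hu₀K
    have hζU : ζ ∈ (U : X.Opens) := hζu.mem_open (U : X.Opens).isOpen hu₀U
    refine ⟨ζ, hζ, Nat.pos_of_ne_zero fun hq0 => ?_, hζU, hζu⟩
    have := hbq ζ
    exact hBU ζ (hsupp_a ζ hζ (by rw [hap]; omega)) hζU
  have hζ₀B : ζ₀ ∉ B := fun h => hBU _ h hζ₀U
  have hν : ∀ ξ ∈ B, ∑ ζ ∈ T, (p ζ : ℚ) * ν k ξ (curveOf ζ) = ∑ ζ ∈ T, (q ζ : ℚ) * ν k ξ (curveOf ζ) :=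
    fun ξ hξ => by
    rw [← ν_prod k (hB1 ξ hξ) T p hTc, ← ν_prod k (hB1 ξ hξ) T q hTc]
    exact ν_congr k (iso_of_cl hcancel)
  have hv : ∀ ξ ∈ B, ∑ ζ ∈ B, (p ζ : ℚ) * ν k ξ (curveOf ζ) = ∑ ζ ∈ T, (p ζ : ℚ) * ν k ξ (curveOf ζ) :=
    fun ξ _ => Finset.sum_subset Finset.subset_union_left fun ζ hζ hn => by rw [hp0 ζ hζ hn]; simp
  have hterm : ∀ (c : X → ℕ), ∀ ξ ∈ B, c ξ = 0 → ∀ ζ ∈ T, 0 ≤ (c ζ : ℚ) * ν k ξ (curveOf ζ) :=
    fun c ξ hξ hc0 ζ hζ => by
    rcases eq_or_ne ξ ζ with rfl | hne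
    · rw [hc0]; simp
    · exact mul_nonneg (Nat.cast_nonneg _) (hoff (hB1 ξ hξ) (hT ζ hζ) hne)
  have hnonneg : ∀ ξ ∈ B, 0 ≤ ∑ ζ ∈ B, (p ζ : ℚ) * ν k ξ (curveOf ζ) := fun ξ hξ => by
    rw [hv ξ hξ]
    rcases hpq ξ with h | h
    · exact Finset.sum_nonneg (hterm p ξ hξ h)
    · rw [hν ξ hξ]
      exact Finset.sum_nonneg (hterm q ξ hξ h)
  have hp_ne : ∃ ξ ∈ B, p ξ ≠ 0 := by
    by_contra! h
    have hall : ∀ ξ ∈ T, curveOf ξ ^ p ξ = 1 := fun ξ hξ => by
      rw [show p ξ = 0 by by_cases hB' : ξ ∈ B; exacts [h ξ hB', hp0 ξ hξ hB'], pow_zero]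
    rw [Finset.prod_eq_one hall] at hcancel
    have hone : PicF.cl (ClSub.idealMod (1 : X.IdealSheafData)) = 1 := by
      have hc1 : BlowUp.IsEffCartierIdeal (1 : X.IdealSheafData) := by
        rw [Scheme.IdealSheafData.one_eq_top]; exact BlowUpLib.cartier_top
      have h2 := cl_idealMod_mul hc1 hc1
      rw [one_mul] at h2
      obtain ⟨M, -, hMi⟩ := W7Hull.exists_tensor_inverse ((Groth.Agent.S8914.result _).2 hc1)
      have hu := cl_inv hMi
      calc _ = PicF.cl (ClSub.idealMod (1 : X.IdealSheafData)) *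
            (PicF.cl (ClSub.idealMod (1 : X.IdealSheafData)) * PicF.cl M) := by rw [hu, mul_one]
        _ = (PicF.cl (ClSub.idealMod (1 : X.IdealSheafData)) * PicF.cl (ClSub.idealMod (1 : X.IdealSheafData))) *
              PicF.cl M := by ac_rfl
        _ = 1 := by rw [← h2, hu]
    have hempty := support_empty_of_iso_one k (cartier_prod T q hTc)
      (fun hη => by
        obtain ⟨ζ, hζ, -, hζη⟩ := (mem_support_prod T q _).1 hη
        have he : ζ = genericPoint X := ((genericPoint_specializes ζ).antisymm hζη).eq.symm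
        have h1 := hT ζ hζ
        rw [he, genericPoint_closure, (Homeomorph.Set.univ X).isHomeomorph.topologicalKrullDim_eq, hdim] at h1
        exact absurd h1 (by decide))
      (iso_of_cl (hcancel.symm.trans (hone.trans cl_one.symm)))
    have : ζ₀ ∈ ((∏ ξ ∈ T, curveOf ξ ^ q ξ).support : Set X) :=
      (mem_support_prod T q _).2 ⟨ζ₀, hζ₀T, hqζ₀.ne', specializes_rfl⟩
    rw [hempty] at this
    exact this
  have hsome : ∃ ξ ∈ B, 0 < ∑ ζ ∈ B, (p ζ : ℚ) * ν k ξ (curveOf ζ) := by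
    let S := B.filter fun ξ => p ξ ≠ 0
    by_cases hS : S = B
    · obtain ⟨y, hy, hyU⟩ := exists_notMem_affine k U.2 (hT ζ₀ hζ₀T)
      obtain ⟨ξ, hξ, hξy⟩ := (hout y).1 hyU
      refine ⟨ξ, hξ, ?_⟩
      have hq0 : q ξ = 0 := (hpq ξ).resolve_left (Finset.mem_filter.1 (hS.symm ▸ hξ : ξ ∈ S)).2
      rw [hv ξ hξ, hν ξ hξ]
      exact Finset.sum_pos' (hterm q ξ hξ hq0) ⟨ζ₀, hζ₀T, mul_pos (by exact_mod_cast hqζ₀)
        (hmeet (hB1 ξ hξ) (hT ζ₀ hζ₀T) (fun h => hζ₀B (h ▸ hξ)) hξy hy)⟩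
    · obtain ⟨ξ₁, h1, h2⟩ := hp_ne
      obtain ⟨ξ, hξ, hξS, ζ, hζ, hδ⟩ := hconn S (Finset.filter_subset _ _) ⟨ξ₁, Finset.mem_filter.2 ⟨h1, h2⟩⟩ hS
      refine ⟨ξ, hξ, ?_⟩
      have hp0' : p ξ = 0 := by
        by_contra h
        exact hξS (Finset.mem_filter.2 ⟨hξ, h⟩)
      obtain ⟨hζB, hpζ⟩ := Finset.mem_filter.1 hζ
      exact Finset.sum_pos' (fun j hj => hterm p ξ hξ hp0' j (Finset.mem_union_left _ hj))
        ⟨ζ, hζB, mul_pos (by exact_mod_cast Nat.pos_of_ne_zero hpζ) hδ⟩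
  obtain ⟨c, hc⟩ := exists_pos B (fun i j => ν k i (curveOf j))
    (fun i hi j hj hne => hoff (hB1 i hi) (hB1 j hj) hne) hconn p hnonneg hsome
  -- make all coefficients positive
  obtain ⟨M, hM⟩ : ∃ M : ℕ, ∀ ξ ∈ B, 0 < (M : ℚ) * (∑ ζ ∈ B, (c ζ : ℚ) * ν k ξ (curveOf ζ)) +
      ∑ ζ ∈ B, ν k ξ (curveOf ζ) := by
    have : ∀ ξ ∈ B, ∃ M : ℕ, ∀ M' ≥ M, 0 < (M' : ℚ) * (∑ ζ ∈ B, (c ζ : ℚ) * ν k ξ (curveOf ζ)) +
        ∑ ζ ∈ B, ν k ξ (curveOf ζ) := fun ξ hξ => by
      obtain ⟨M, hM⟩ := exists_nat_gt (-(∑ ζ ∈ B, ν k ξ (curveOf ζ)) / ∑ ζ ∈ B, (c ζ : ℚ) * ν k ξ (curveOf ζ))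
      rw [div_lt_iff₀ (hc ξ hξ)] at hM
      refine ⟨M, fun M' hM' => ?_⟩
      have := mul_le_mul_of_nonneg_right (Nat.cast_le.2 hM' : (M : ℚ) ≤ M') (hc ξ hξ).le
      linarith
    choose! Mf hMf using this
    exact ⟨B.sup Mf, fun ξ hξ => hMf ξ hξ _ (Finset.le_sup hξ)⟩
  refine ⟨B, fun ζ => M * c ζ, hB1, hout, fun ξ hξ => ?_⟩
  refine (hM ξ hξ).trans_le (le_of_eq ?_)
  rw [Finset.mul_sum, ← Finset.sum_add_distrib]
  refine Finset.sum_congr rfl fun ζ _ => ?_
  push_cast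
  ring

include k hdim hreg in
/-- An ample effective Cartier divisor with support the complement of an affine open. -/
theorem exists_ample_divisor (U : X.affineOpens) (hU : ((U : X.Opens) : Set X).Nonempty) :
    ∃ I : X.IdealSheafData, BlowUp.IsEffCartierIdeal I ∧ (I.support : Set X) = ((U : X.Opens) : Set X)ᶜ ∧
      ∀ L : X.Modules, PicF.IsInvertible L → ClSub.IsInverseOf L (ClSub.idealMod I) → CohB1.IsAmple L := by
  classical
  haveI := CurveRR.isNoetherian_of_proper k X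
  obtain ⟨B, a, hB1, hout, hpos⟩ := exists_positive k hdim hreg U hU
  have hBc : ∀ ξ ∈ B, BlowUp.IsEffCartierIdeal (curveOf ξ) := fun ξ hξ => cartier_curveOf k hdim hreg (hB1 ξ hξ)
  let I := ∏ ξ ∈ B, curveOf ξ ^ (a ξ + 1)
  have hI : BlowUp.IsEffCartierIdeal I := cartier_prod B (fun ξ => a ξ + 1) hBc
  have hsupp : (I.support : Set X) = ((U : X.Opens) : Set X)ᶜ := by
    ext x
    rw [mem_support_prod B (fun ξ => a ξ + 1), Set.mem_compl_iff, SetLike.mem_coe, hout]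
    simp
  refine ⟨I, hI, hsupp, fun L hL hLI => ?_⟩
  obtain ⟨eL⟩ := hLI
  have hdeg : ∀ {γ : X}, topologicalKrullDim (closure {γ} : Set X) = ((1 : ℕ) : WithBot ℕ∞) →
      0 < degOn k (curveOf γ) L := fun {γ} hγ => by
    rw [degOn_inv k (curveOf γ) (support_dim_curveOf hγ) ((Groth.Agent.S8914.result I).2 hI)
      ⟨TMul.commIso _ _ ≪≫ eL⟩]
    show 0 < ν k γ I
    by_cases hm : γ ∈ B
    · rw [show I = ∏ ξ ∈ B, curveOf ξ ^ (fun ξ => a ξ + 1) ξ from rfl, ν_prod k hγ B (fun ξ => a ξ + 1) hBc]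
      exact hpos γ hm
    · have hn : γ ∉ (I.support : Set X) := fun h => by
        rw [hsupp] at h
        obtain ⟨ξ, hξ, hξγ⟩ := (hout γ).1 h
        exact hm (eq_of_dim hξγ (hB1 ξ hξ).le hγ ▸ hξ)
      obtain ⟨y, hy, hyU⟩ := exists_notMem_affine k U.2 hγ
      refine ν_pos k hγ hI hn hy ?_
      show y ∈ (I.support : Set X)
      rw [hsupp]; exact hyU
  have hstrict : StrictNef k L := fun C hC hd => by
    obtain ⟨γ, rfl⟩ : ∃ γ, C = curveOf γ := ⟨_, eq_curveOf C⟩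
    have h := hdeg (γ := γ) (by rw [← support_curveOf, hd]; rfl)
    rw [degOn] at h
    exact_mod_cast h
  obtain ⟨σ, hσ⟩ := ResDesc.exists_section_of_inverse I hI hL eL
  refine isAmple_of_effective k hL hstrict fun ξ => ?_
  let Z := (curveOf ξ).subscheme
  let i : Z ⟶ X := Devissage.Zi ξ
  letI : Z.Over (Spec (CommRingCat.of k)) := ⟨i ≫ (X ↘ Spec (CommRingCat.of k))⟩
  haveI : IsProper (Z ↘ Spec (CommRingCat.of k)) := inferInstanceAs (IsProper (i ≫ _))
  haveI := CurveRR.isNoetherian_of_proper k Z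
  have hgp : i (genericPoint Z) = ξ := genericPoint_curveOf ξ
  by_cases hξ : ξ ∈ (U : X.Opens)
  · obtain ⟨e⟩ := TMul.nonempty_powOneIso L
    obtain ⟨s, hs⟩ := TMul.exists_pullback_section i hL (σ ≫ e.inv)
    refine ⟨0, s, fun h0 => ?_⟩
    have hmem : genericPoint Z ∈ CohB1.genLocus _ s := by
      rw [hs, TMul.genLocus_comp, hσ]
      show i (genericPoint Z) ∉ (I.support : Set X)
      rw [hgp, hsupp]
      exact not_not.2 hξ
    rw [h0, TMul.genLocus_zero] at hmem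
    exact hmem
  · obtain ⟨ζ, hζ, hζξ⟩ := (hout ξ).1 hξ
    by_cases hc : IsClosed ({ξ} : Set X)
    · haveI : Subsingleton Z := ⟨fun x y => by
        have hr : Set.range i = {ξ} := by rw [Devissage.range_Zi, hc.closure_eq]
        have hx : i x = ξ := (Set.ext_iff.1 hr (i x)).1 ⟨x, rfl⟩
        have hy : i y = ξ := (Set.ext_iff.1 hr (i y)).1 ⟨y, rfl⟩
        exact i.isClosedEmbedding.injective (hx.trans hy.symm)⟩
      have hP := TMul.isInvertible_tensorPow (PicLoc.isInvertible_pullback i hL) (0 + 1)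
      obtain ⟨e⟩ := nonempty_iso_one_of_subsingleton hP
      refine ⟨0, e.hom, fun h0 => ?_⟩
      have hmem : genericPoint Z ∈ CohB1.genLocus _ e.hom := by
        refine le_sSup (show (⊤ : Z.Opens) ∈ _ from ?_) (trivial : genericPoint Z ∈ (⊤ : Z.Opens))
        show IsIso _
        infer_instance
      rw [h0, TMul.genLocus_zero] at hmem
      exact hmem
    · have hξB : ξ = ζ := by
        by_contra hne
        haveI : QuasiSober (closure ({ζ} : Set X)) :=
          Topology.IsClosedEmbedding.quasiSober (f := (Subtype.val : closure ({ζ} : Set X) → X))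
            isClosed_closure.isClosedEmbedding_subtypeVal
        obtain ⟨z, hz, hzne⟩ : ∃ z ∈ closure ({ξ} : Set X), z ≠ ξ := by
          by_contra! h
          exact hc (by
            rw [show ({ξ} : Set X) = closure {ξ} from subset_antisymm subset_closure h]
            exact isClosed_closure)
        have hzξ := specializes_iff_mem_closure.mpr hz
        have h2 : ((2 : ℕ) : WithBot ℕ∞) ≤ topologicalKrullDim (closure ({ζ} : Set X)) :=
          le_dim_of_chain (n := 2) ![⟨z, specializes_iff_mem_closure.mp (hζξ.trans hzξ)⟩,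
            ⟨ξ, specializes_iff_mem_closure.mp hζξ⟩, ⟨ζ, subset_closure rfl⟩] fun a b hab => by
            fin_cases a <;> fin_cases b <;> simp at hab ⊢
            · exact ⟨Topology.IsInducing.subtypeVal.specializes_iff.mp hzξ, hzne⟩
            · exact ⟨Topology.IsInducing.subtypeVal.specializes_iff.mp (hζξ.trans hzξ),
                fun e => hne ((hzξ.antisymm (e ▸ hζξ)).eq.trans e)⟩
            · exact ⟨Topology.IsInducing.subtypeVal.specializes_iff.mp hζξ, hne⟩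
        rw [hB1 ζ hζ] at h2
        exact absurd h2 (by decide)
      subst hξB
      have hγ := hB1 ξ hζ
      have hpos' := hdeg hγ
      obtain ⟨w, hw⟩ := exists_nat_gt
        ((-(Curv2.euler k X (ClSub.quotMod (curveOf ξ)) : ℚ)) / degOn k (curveOf ξ) L)
      rw [div_lt_iff₀ hpos'] at hw
      have hd := degOn_pow k (curveOf ξ) (support_dim_curveOf hγ) hL (w + 1)
      rw [degOn] at hd
      have he : (0 : ℚ) < Curv2.euler k X (CohB1.tensorMod (ClSub.quotMod (curveOf ξ)) (CohB1.tensorPow L (w + 1))) := by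
        push_cast at hd ⊢
        linarith
      have hpull := euler_quot_twist k i (TMul.isInvertible_tensorPow hL (w + 1))
      rw [show i.ker = curveOf ξ from Scheme.IdealSheafData.ker_subschemeι _] at hpull
      obtain ⟨e⟩ := TMul.nonempty_pullPowIso i L (w + 1)
      have hZd : topologicalKrullDim Z ≤ ((1 : ℕ) : WithBot ℕ∞) := by
        rw [IsHomeomorph.topologicalKrullDim_eq _ i.isClosedEmbedding.isEmbedding.toHomeomorph.isHomeomorph,
          Devissage.range_Zi, hγ]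
      let P := CohB1.tensorPow ((Scheme.Modules.pullback i).obj L) (w + 1)
      have hh : Subsingleton (Coh.HH Z P 2) :=
        Groth.Agent.S0458.result (X := Z.toPresheafedSpace.carrier) 1 hZd (Coh.toAb P) 2 (by omega)
      have hle := euler_le_h0 k (hZd.trans (by decide)) hh
      have heq : Curv2.euler k Z P =
          Curv2.euler k X (CohB1.tensorMod (ClSub.quotMod (curveOf ξ)) (CohB1.tensorPow L (w + 1))) := by
        rw [hpull]; exact CurveRR.euler_eq_of_iso e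
      have he' : (0 : ℤ) < Curv2.euler k X (CohB1.tensorMod (ClSub.quotMod (curveOf ξ))
          (CohB1.tensorPow L (w + 1))) := by exact_mod_cast he
      obtain ⟨s, hs⟩ := exists_section_of_h0 k (G := P) (by omega)
      exact ⟨w, s, hs⟩

end Groth.Agent.SurfAmple
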